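import Cfsg.Agent.Lib.Helper28.Srg77.Cert

set_option autoImplicit false
set_option linter.unusedSectionVars false
set_option linter.unusedVariables false
set_option linter.unusedSimpArgs false
set_option maxHeartbeats 1600000

/-!
Piece [C] of the uniqueness of `srg(77,16,0,4)`: `Col a x y`, `Col a x y'`, `y ≠ y'` imply
`Col a y y'`.  Three PSD certificates on the classes
`{a}`, `{x}`, `{y,y'}`, `M(a,x)`, `O = M(a,y) ∩ M(a,y')`, `R = (M(a,y) ∪ M(a,y')) \ O`.
-/

namespace Cfsg.Agent.Lib.Helper28.Srg77

open Finset Classical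

variable {V : Type*} [Fintype V] {G : SimpleGraph V}

namespace PieceC

/-- the value of the form on the six classes, in terms of `i = |O|` and the flag `e` (`= 2` when
`y ~ y'`, else `0`) -/
theorem form_le (hG : M22Like G) {a x y y' : V} (pax : Perp G a x) (pay : Perp G a y)
    (pxy : Perp G x y) (ncy : ∀ m, G.Adj a m → G.Adj x m → ¬ G.Adj y m)
    (pay' : Perp G a y') (pxy' : Perp G x y') (ncy' : ∀ m, G.Adj a m → G.Adj x m → ¬ G.Adj y' m)
    (hne : y ≠ y') (i : ℕ) (hi : (cn G a y ∩ cn G a y').card = i) (e : ℤ)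
    (he : ee G {y, y'} {y, y'} = e) (w0 w1 w2 w3 w4 w5 : ℤ) :
    0 ≤ w0 * w0 * 24 + w1 * w1 * 24 + w2 * w2 * (22 * 2 - 11 * e + 8) +
      w3 * w3 * (22 * 4 + 32) + w4 * w4 * (22 * (i : ℤ) + 2 * i * i) +
      w5 * w5 * (22 * (8 - 2 * (i : ℤ)) + 2 * (8 - 2 * i) * (8 - 2 * i)) +
      2 * (w0 * w1 * 2 + w0 * w2 * 4 + w0 * w3 * (-11 * 4 + 8) +
        w0 * w4 * (-11 * (i : ℤ) + 2 * i) + w0 * w5 * (-11 * (8 - 2 * (i : ℤ)) + 2 * (8 - 2 * i)) +
        w1 * w2 * 4 + w1 * w3 * (-11 * 4 + 8) + w1 * w4 * (2 * (i : ℤ)) +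
        w1 * w5 * (2 * (8 - 2 * (i : ℤ))) +
        w2 * w3 * 16 + w2 * w4 * (-11 * (2 * (i : ℤ)) + 4 * i) +
        w2 * w5 * (-11 * (2 * (4 - (i : ℤ))) + 4 * (8 - 2 * i)) +
        w3 * w4 * (8 * (i : ℤ)) + w3 * w5 * (8 * (8 - 2 * (i : ℤ))) +
        w4 * w5 * (2 * (i : ℤ) * (8 - 2 * i))) := by
  set Mx := cn G a x with hMx
  set My := cn G a y with hMy
  set My' := cn G a y' with hMy'
  set O := My ∩ My' with hO
  set R := (My ∪ My') \ O with hR
  have cMx : Mx.card = 4 := card_cn hG pax
  have cMy : My.card = 4 := card_cn hG pay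
  have cMy' : My'.card = 4 := card_cn hG pay'
  have hOsub : O ⊆ My ∪ My' := fun m hm => mem_union_left _ (mem_inter.1 hm).1
  have cR : R.card = 8 - 2 * i := by
    have h1 := card_union_add_card_inter My My'
    have h2 : R.card = (My ∪ My').card - O.card := card_sdiff_of_subset hOsub
    rw [← hO, hi] at h1
    rw [h2, hi]
    omega
  have hi4 : i ≤ 4 := by
    rw [← hi, ← cMy]
    exact card_le_card inter_subset_left
  have cRz : (R.card : ℤ) = 8 - 2 * (i : ℤ) := by
    rw [cR]
    push_cast [Nat.cast_sub (by omega : 2 * i ≤ 8)]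
    ring
  -- membership facts
  have aMx : ∀ m ∈ Mx, G.Adj a m := fun m hm => (mem_cn.1 hm).1
  have aO : ∀ m ∈ O, G.Adj a m := fun m hm => (mem_cn.1 (mem_inter.1 hm).1).1
  have aR : ∀ m ∈ R, G.Adj a m := by
    intro m hm
    rcases mem_union.1 (mem_sdiff.1 hm).1 with h | h
    · exact (mem_cn.1 h).1
    · exact (mem_cn.1 h).1
  have naa : ¬ G.Adj a a := G.loopless.irrefl a
  -- x is not adjacent to My ∪ My'
  have xMy : ∀ m ∈ My ∪ My', ¬ G.Adj x m := by
    intro m hm hx
    rcases mem_union.1 hm with h | h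
    · exact ncy m (mem_cn.1 h).1 hx (mem_cn.1 h).2
    · exact ncy' m (mem_cn.1 h).1 hx (mem_cn.1 h).2
  -- cardinalities
  have c0 : (({a} : Finset V).card : ℤ) = 1 := by simp
  have c1 : (({x} : Finset V).card : ℤ) = 1 := by simp
  have c2 : (({y, y'} : Finset V).card : ℤ) = 2 := by
    rw [card_pair hne]
    rfl
  have c3 : (Mx.card : ℤ) = 4 := by rw [cMx]; rfl
  have c4 : (O.card : ℤ) = i := by rw [hi]
  -- disjointness
  have d01 : Disjoint ({a} : Finset V) {x} := by
    rw [disjoint_singleton]
    exact pax.1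
  have d02 : Disjoint ({a} : Finset V) {y, y'} := by
    rw [disjoint_singleton_left, mem_insert, mem_singleton]
    rintro (h | h)
    · exact pay.1 h
    · exact pay'.1 h
  have d03 : Disjoint ({a} : Finset V) Mx := by
    rw [disjoint_singleton_left]
    exact fun h => naa (aMx a h)
  have d04 : Disjoint ({a} : Finset V) O := by
    rw [disjoint_singleton_left]
    exact fun h => naa (aO a h)
  have d05 : Disjoint ({a} : Finset V) R := by
    rw [disjoint_singleton_left]
    exact fun h => naa (aR a h)
  have d12 : Disjoint ({x} : Finset V) {y, y'} := by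
    rw [disjoint_singleton_left, mem_insert, mem_singleton]
    rintro (h | h)
    · exact pxy.1 h
    · exact pxy'.1 h
  have d13 : Disjoint ({x} : Finset V) Mx := by
    rw [disjoint_singleton_left]
    exact fun h => pax.2 (aMx x h)
  have d14 : Disjoint ({x} : Finset V) O := by
    rw [disjoint_singleton_left]
    exact fun h => pax.2 (aO x h)
  have d15 : Disjoint ({x} : Finset V) R := by
    rw [disjoint_singleton_left]
    exact fun h => pax.2 (aR x h)
  have d23 : Disjoint ({y, y'} : Finset V) Mx := by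
    rw [disjoint_left]
    intro m hm hm'
    rw [mem_insert, mem_singleton] at hm
    rcases hm with rfl | rfl
    · exact pay.2 (aMx _ hm')
    · exact pay'.2 (aMx _ hm')
  have d24 : Disjoint ({y, y'} : Finset V) O := by
    rw [disjoint_left]
    intro m hm hm'
    rw [mem_insert, mem_singleton] at hm
    rcases hm with rfl | rfl
    · exact pay.2 (aO _ hm')
    · exact pay'.2 (aO _ hm')
  have d25 : Disjoint ({y, y'} : Finset V) R := by
    rw [disjoint_left]
    intro m hm hm'
    rw [mem_insert, mem_singleton] at hm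
    rcases hm with rfl | rfl
    · exact pay.2 (aR _ hm')
    · exact pay'.2 (aR _ hm')
  have d34 : Disjoint Mx O := by
    rw [disjoint_left]
    intro m hm hm'
    exact xMy m (hOsub hm') (mem_cn.1 hm).2
  have d35 : Disjoint Mx R := by
    rw [disjoint_left]
    intro m hm hm'
    exact xMy m (mem_sdiff.1 hm').1 (mem_cn.1 hm).2
  have d45 : Disjoint O R := by
    rw [disjoint_left]
    intro m hm hm'
    exact (mem_sdiff.1 hm').2 hm
  -- edge counts
  have e00 : ee G ({a} : Finset V) {a} = 0 := ee_zero (by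
    intro u hu v hv
    rw [mem_singleton] at hu hv
    subst hu; subst hv
    exact naa)
  have e01 : ee G ({a} : Finset V) {x} = 0 := ee_zero (by
    intro u hu v hv
    rw [mem_singleton] at hu hv
    subst hu; subst hv
    exact pax.2)
  have e02 : ee G ({a} : Finset V) {y, y'} = 0 := ee_zero (by
    intro u hu v hv
    rw [mem_singleton] at hu
    rw [mem_insert, mem_singleton] at hv
    subst hu
    rcases hv with rfl | rfl
    · exact pay.2
    · exact pay'.2)
  have e03 : ee G ({a} : Finset V) Mx = 4 := by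
    rw [ee_full (by
      intro u hu v hv
      rw [mem_singleton] at hu
      subst hu
      exact aMx v hv), c0, c3]
    norm_num
  have e04 : ee G ({a} : Finset V) O = i := by
    rw [ee_full (by
      intro u hu v hv
      rw [mem_singleton] at hu
      subst hu
      exact aO v hv), c0, c4]
    ring
  have e05 : ee G ({a} : Finset V) R = 8 - 2 * (i : ℤ) := by
    rw [ee_full (by
      intro u hu v hv
      rw [mem_singleton] at hu
      subst hu
      exact aR v hv), c0, cRz]
    ring
  have e11 : ee G ({x} : Finset V) {x} = 0 := ee_zero (by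
    intro u hu v hv
    rw [mem_singleton] at hu hv
    subst hu; subst hv
    exact G.loopless.irrefl _)
  have e12 : ee G ({x} : Finset V) {y, y'} = 0 := ee_zero (by
    intro u hu v hv
    rw [mem_singleton] at hu
    rw [mem_insert, mem_singleton] at hv
    subst hu
    rcases hv with rfl | rfl
    · exact pxy.2
    · exact pxy'.2)
  have e13 : ee G ({x} : Finset V) Mx = 4 := by
    rw [ee_full (by
      intro u hu v hv
      rw [mem_singleton] at hu
      subst hu
      exact (mem_cn.1 hv).2), c1, c3]
    norm_num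
  have e14 : ee G ({x} : Finset V) O = 0 := ee_zero (by
    intro u hu v hv
    rw [mem_singleton] at hu
    subst hu
    exact xMy v (hOsub hv))
  have e15 : ee G ({x} : Finset V) R = 0 := ee_zero (by
    intro u hu v hv
    rw [mem_singleton] at hu
    subst hu
    exact xMy v (mem_sdiff.1 hv).1)
  have e23 : ee G ({y, y'} : Finset V) Mx = 0 := ee_zero (by
    intro u hu v hv
    rw [mem_insert, mem_singleton] at hu
    rcases hu with rfl | rfl
    · exact fun h => ncy v (mem_cn.1 hv).1 (mem_cn.1 hv).2 h
    · exact fun h => ncy' v (mem_cn.1 hv).1 (mem_cn.1 hv).2 h)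
  have e24 : ee G ({y, y'} : Finset V) O = 2 * (i : ℤ) := by
    rw [ee_full (by
      intro u hu v hv
      rw [mem_insert, mem_singleton] at hu
      rcases hu with rfl | rfl
      · exact (mem_cn.1 (mem_inter.1 hv).1).2
      · exact (mem_cn.1 (mem_inter.1 hv).2).2), c2, c4]
  have e25 : ee G ({y, y'} : Finset V) R = 2 * (4 - (i : ℤ)) := by
    have hcount : ∀ u ∈ ({y, y'} : Finset V), (R.filter (fun v => G.Adj u v)).card = 4 - i := by
      intro u hu
      rw [mem_insert, mem_singleton] at hu
      rcases hu with rfl | rfl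
      · have : R.filter (fun v => G.Adj u v) = My \ O := by
          ext m
          simp only [hR, mem_filter, mem_sdiff, mem_union]
          constructor
          · rintro ⟨⟨h1 | h1, h2⟩, h3⟩
            · exact ⟨h1, h2⟩
            · exact absurd (mem_inter.2 ⟨mem_cn.2 ⟨(mem_cn.1 h1).1, h3⟩, h1⟩) h2
          · rintro ⟨h1, h2⟩
            exact ⟨⟨Or.inl h1, h2⟩, (mem_cn.1 h1).2⟩
        rw [this, card_sdiff_of_subset inter_subset_left, cMy, hi]
      · have : R.filter (fun v => G.Adj u v) = My' \ O := by
          ext m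
          simp only [hR, mem_filter, mem_sdiff, mem_union]
          constructor
          · rintro ⟨⟨h1 | h1, h2⟩, h3⟩
            · exact absurd (mem_inter.2 ⟨h1, mem_cn.2 ⟨(mem_cn.1 h1).1, h3⟩⟩) h2
            · exact ⟨h1, h2⟩
          · rintro ⟨h1, h2⟩
            exact ⟨⟨Or.inr h1, h2⟩, (mem_cn.1 h1).2⟩
        rw [this, card_sdiff_of_subset inter_subset_right, cMy', hi]
    rw [ee_const hcount, c2]
    push_cast [Nat.cast_sub hi4]
    ring
  have nbz : ∀ (S S' : Finset V), (∀ m ∈ S, G.Adj a m) → (∀ m ∈ S', G.Adj a m) →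
      ee G S S' = 0 := by
    intro S S' h h'
    exact ee_zero fun u hu v hv => nadj_of_nb hG (h u hu) (h' v hv)
  have e33 := nbz Mx Mx aMx aMx
  have e34 := nbz Mx O aMx aO
  have e35 := nbz Mx R aMx aR
  have e44 := nbz O O aO aO
  have e45 := nbz O R aO aR
  have e55 := nbz R R aR aR
  have h := cert6 hG {a} {x} {y, y'} Mx O R w0 w1 w2 w3 w4 w5
  rw [bv_self, bv_self, bv_self, bv_self, bv_self, bv_self, bv_disj d01, bv_disj d02, bv_disj d03,
    bv_disj d04, bv_disj d05, bv_disj d12, bv_disj d13, bv_disj d14, bv_disj d15, bv_disj d23,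
    bv_disj d24, bv_disj d25, bv_disj d34, bv_disj d35, bv_disj d45, e00, e01, e02, e03, e04, e05,
    e11, e12, e13, e14, e15, he, e23, e24, e25, e33, e34, e35, e44, e45, e55, c0, c1, c2, c3, c4,
    cRz] at h
  convert h using 1
  ring

end PieceC

/-- [C] -/
theorem p3 (hG : M22Like G) (h1 : P1 G) : P3 G := by
  intro a x y y' hxy hxy' hne
  obtain ⟨pax, pay, pxy, ncy⟩ := hxy
  obtain ⟨_, pay', pxy', ncy'⟩ := hxy'
  have key := PieceC.form_le hG pax pay pxy ncy pay' pxy' ncy' hne
  have hOeq : cn G a y ∩ cn G a y' =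
      univ.filter (fun m => G.Adj a m ∧ G.Adj y m ∧ G.Adj y' m) := by
    ext m
    rw [mem_inter, mem_cn, mem_cn, mem_filter]
    constructor
    · rintro ⟨⟨h1, h2⟩, _, h4⟩
      exact ⟨mem_univ _, h1, h2, h4⟩
    · rintro ⟨_, h1, h2, h3⟩
      exact ⟨⟨h1, h2⟩, h1, h3⟩
  by_cases hadj : G.Adj y y'
  · -- certificate 1
    exfalso
    have hi : (cn G a y ∩ cn G a y').card = 0 := by
      rw [card_eq_zero, eq_empty_iff_forall_notMem]
      intro m hm
      rw [mem_inter, mem_cn, mem_cn] at hm
      exact hG.tri y y' m hadj hm.1.2 hm.2.2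
    have he : ee G ({y, y'} : Finset V) {y, y'} = 2 := by
      have hcount : ∀ u ∈ ({y, y'} : Finset V),
          (({y, y'} : Finset V).filter (fun v => G.Adj u v)).card = 1 := by
        intro u hu
        rw [mem_insert, mem_singleton] at hu
        rcases hu with rfl | rfl
        · have : ({u, y'} : Finset V).filter (fun v => G.Adj u v) = {y'} := by
            ext m
            simp only [mem_filter, mem_insert, mem_singleton]
            constructor
            · rintro ⟨rfl | rfl, h2⟩
              · exact absurd h2 (G.loopless.irrefl _)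
              · rfl
            · rintro rfl
              exact ⟨Or.inr rfl, hadj⟩
          rw [this, card_singleton]
        · have : ({y, u} : Finset V).filter (fun v => G.Adj u v) = {y} := by
            ext m
            simp only [mem_filter, mem_insert, mem_singleton]
            constructor
            · rintro ⟨rfl | rfl, h2⟩
              · rfl
              · exact absurd h2 (G.loopless.irrefl _)
            · rintro rfl
              exact ⟨Or.inl rfl, hadj.symm⟩
          rw [this, card_singleton]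
      rw [ee_const hcount, card_pair hne]
      norm_num
    have := key 0 hi 2 he (-1) 1 (-2) 1 0 (-1)
    norm_num at this
  · have pyy' : Perp G y y' := ⟨hne, hadj⟩
    have he : ee G ({y, y'} : Finset V) {y, y'} = 0 := ee_zero (by
      intro u hu v hv
      rw [mem_insert, mem_singleton] at hu hv
      rcases hu with rfl | rfl <;> rcases hv with rfl | rfl
      · exact G.loopless.irrefl _
      · exact hadj
      · exact fun h => hadj h.symm
      · exact G.loopless.irrefl _)
    have hle := h1 a y y' pay pay' pyy'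
    rw [← hOeq] at hle
    obtain ⟨i, hi⟩ : ∃ i, (cn G a y ∩ cn G a y').card = i := ⟨_, rfl⟩
    rw [hi] at hle
    interval_cases i
    · refine ⟨pay, pay', pyy', ?_⟩
      intro m h1 h2 h3
      rw [card_eq_zero, eq_empty_iff_forall_notMem] at hi
      exact hi m (mem_inter.2 ⟨mem_cn.2 ⟨h1, h2⟩, mem_cn.2 ⟨h1, h3⟩⟩)
    · exfalso
      have := key 1 hi 0 he (-1) 2 (-2) 1 (-2) (-1)
      norm_num at this
    · exfalso
      have := key 2 hi 0 he (-1) (-2) 1 (-1) 1 0
      norm_num at this

end Cfsg.Agent.Lib.Helper28.Srg77
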