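import Cfsg.Agent.Lib.Helper28.Srg77.Cert

set_option autoImplicit false
set_option linter.unusedSectionVars false
set_option linter.unusedVariables false
set_option linter.unusedSimpArgs false

/-!
Piece [H] of the uniqueness of `srg(77,16,0,4)`: two lines `L ≠ L'` through a vertex `x`.  The
four vertices of `L` other than `x` partition the neighbourhood of `x` into four 4-sets
`M(x,y)`, and so do those of `L'`; the intersection numbers of the two partitions are `0`
(adjacent), or `1`, `2`.  One vertex of `L'` without neighbour on `L` forces all intersection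
numbers to be `1`.
-/

namespace Cfsg.Agent.Lib.Helper28.Srg77

open Finset Classical

variable {V : Type*} [Fintype V] {G : SimpleGraph V}

namespace PieceH

/-- the neighbourhood -/
noncomputable def nb (G : SimpleGraph V) (x : V) : Finset V := univ.filter (fun c => G.Adj x c)

theorem cn_subset_nb (x y : V) : cn G x y ⊆ nb G x := by
  intro m hm
  rw [nb, mem_filter]
  exact ⟨mem_univ _, (mem_cn.1 hm).1⟩

section

variable (hG : M22Like G) (h4 : P4 G) {L : Finset V} (hL : IsLine G L) {x : V} (hx : x ∈ L)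
include hG h4 hL hx

theorem perp_erase {y : V} (hy : y ∈ L.erase x) : Perp G x y := by
  obtain ⟨p, q, hpq, rfl⟩ := hL
  rw [mem_erase] at hy
  exact h4.perp_of_mem p q hpq x hx y hy.2 hy.1.symm

theorem card_erase_line : (L.erase x).card = 4 := by
  obtain ⟨p, q, hpq, rfl⟩ := hL
  rw [card_erase_of_mem hx, h4.card_line p q hpq]

theorem disj_erase {y y₂ : V} (hy : y ∈ L.erase x) (hy₂ : y₂ ∈ L.erase x) (hne : y ≠ y₂) :
    Disjoint (cn G x y) (cn G x y₂) := by
  obtain ⟨p, q, hpq, rfl⟩ := hL
  rw [mem_erase] at hy hy₂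
  have hc := h4.col_of_mem p q hpq x hx y hy.2 y₂ hy₂.2 hy.1.symm hy₂.1.symm hne
  rw [disjoint_left]
  intro m hm hm₂
  exact hc.2.2.2 m (mem_cn.1 hm).1 (mem_cn.1 hm).2 (mem_cn.1 hm₂).2

theorem biUnion_eq : (L.erase x).biUnion (fun y => cn G x y) = nb G x := by
  apply eq_of_subset_of_card_le
  · intro m hm
    rw [mem_biUnion] at hm
    obtain ⟨y, _, hm⟩ := hm
    exact cn_subset_nb x y hm
  · rw [card_biUnion]
    · have : ∀ y ∈ L.erase x, (cn G x y).card = 4 := fun y hy =>
        card_cn hG (perp_erase hG h4 hL hx hy)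
      rw [Finset.sum_congr rfl this, sum_const, card_erase_line hG h4 hL hx, nb, hG.deg x]
      rfl
    · intro y hy y₂ hy₂ hne
      exact disj_erase hG h4 hL hx hy hy₂ hne

/-- the row sum -/
theorem sum_inter {z : V} (hz : Perp G x z) :
    ∑ y ∈ L.erase x, (cn G x y ∩ cn G x z).card = 4 := by
  rw [← card_biUnion]
  · have : (L.erase x).biUnion (fun y => cn G x y ∩ cn G x z) = cn G x z := by
      rw [← biUnion_inter, biUnion_eq hG h4 hL hx]
      exact inter_eq_right.2 (cn_subset_nb x z)
    rw [this, card_cn hG hz]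
  · intro y hy y₂ hy₂ hne
    exact (disj_erase hG h4 hL hx hy hy₂ hne).mono inter_subset_left inter_subset_left

end

end PieceH

open PieceH

/-- [H] -/
theorem p8 (hG : M22Like G) (h1 : P1 G) (h4 : P4 G) (h5 : P5 G) : P8 G := by
  intro L L' hL hL' hne x hx hx' z hz hzx hzL
  -- the two lines meet only in `x`
  have hmeet : ∀ y, y ∈ L → y ∈ L' → y = x := by
    intro y hy hy'
    by_contra hyx
    apply hne
    obtain ⟨p, q, hpq, rfl⟩ := hL
    obtain ⟨p', q', hpq', rfl⟩ := hL'
    rw [← h4.line_eq p q hpq x hx y hy (Ne.symm hyx),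
      ← h4.line_eq p' q' hpq' x hx' y hy' (Ne.symm hyx)]
  -- intersection numbers
  have hint : ∀ y ∈ L.erase x, ∀ y' ∈ L'.erase x,
      (G.Adj y y' → (cn G x y ∩ cn G x y').card = 0) ∧
      (¬ G.Adj y y' → 1 ≤ (cn G x y ∩ cn G x y').card ∧ (cn G x y ∩ cn G x y').card ≤ 2) := by
    intro y hy y' hy'
    have pxy := perp_erase hG h4 hL hx hy
    have pxy' := perp_erase hG h4 hL' hx' hy'
    have hyy' : y ≠ y' := by
      intro h
      rw [mem_erase] at hy hy'
      exact hy.1 (hmeet y hy.2 (h ▸ hy'.2))
    have hset : cn G x y ∩ cn G x y' =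
        univ.filter (fun m => G.Adj x m ∧ G.Adj y m ∧ G.Adj y' m) := by
      ext m
      rw [mem_inter, mem_cn, mem_cn, mem_filter]
      constructor
      · rintro ⟨⟨a1, a2⟩, _, a4⟩
        exact ⟨mem_univ _, a1, a2, a4⟩
      · rintro ⟨_, a1, a2, a3⟩
        exact ⟨⟨a1, a2⟩, a1, a3⟩
    constructor
    · intro hadj
      rw [card_eq_zero, eq_empty_iff_forall_notMem]
      intro m hm
      rw [mem_inter, mem_cn, mem_cn] at hm
      exact hG.tri y y' m hadj hm.1.2 hm.2.2
    · intro hnadj
      constructor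
      · rw [Nat.one_le_iff_ne_zero]
        intro h0
        rw [card_eq_zero, eq_empty_iff_forall_notMem] at h0
        -- then `y'` is collinear with `x, y`, so lies on `L`
        have hcol : Col G x y y' := by
          refine ⟨pxy, pxy', ⟨hyy', hnadj⟩, ?_⟩
          intro m a1 a2 a3
          exact h0 m (mem_inter.2 ⟨mem_cn.2 ⟨a1, a2⟩, mem_cn.2 ⟨a1, a3⟩⟩)
        obtain ⟨p, q, hpq, rfl⟩ := hL
        rw [mem_erase] at hy hy'
        have hmem : y' ∈ line G x y := mem_line.2 (Or.inr (Or.inr hcol))
        rw [h4.line_eq p q hpq x hx y hy.2 hy.1.symm] at hmem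
        exact hy'.1 (hmeet y' hmem hy'.2)
      · rw [hset]
        exact h1 x y y' pxy pxy' ⟨hyy', hnadj⟩
  -- `z` has intersection number one with every `y`
  have hzmem : z ∈ L'.erase x := mem_erase.2 ⟨hzx, hz⟩
  have pxz := perp_erase hG h4 hL' hx' hzmem
  have hone : ∀ y ∈ L.erase x, (cn G x y ∩ cn G x z).card = 1 := by
    have hsum := sum_inter hG h4 hL hx pxz
    have hge : ∀ y ∈ L.erase x, 1 ≤ (cn G x y ∩ cn G x z).card := by
      intro y hy
      have hnadj : ¬ G.Adj y z := fun h => hzL y (mem_erase.1 hy).2 h.symm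
      exact ((hint y hy z hzmem).2 hnadj).1
    have hcard := card_erase_line hG h4 hL hx
    by_contra hcon
    push Not at hcon
    obtain ⟨y₀, hy₀, hne₀⟩ := hcon
    have hlt : ∑ y ∈ L.erase x, 1 < ∑ y ∈ L.erase x, (cn G x y ∩ cn G x z).card := by
      apply Finset.sum_lt_sum hge
      exact ⟨y₀, hy₀, lt_of_le_of_ne (hge y₀ hy₀) (Ne.symm hne₀)⟩
    rw [sum_const, hcard, hsum] at hlt
    simp at hlt
  -- every `y` on `L` off `x` has no neighbour on `L'`
  have hcol : ∀ y ∈ L.erase x, ∀ y' ∈ L'.erase x, ¬ G.Adj y y' := by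
    intro y hy
    have pxy := perp_erase hG h4 hL hx hy
    have hynot : y ∉ L' := by
      intro h
      rw [mem_erase] at hy
      exact hy.1 (hmeet y hy.2 h)
    have hk := h5.nb_line L' hL' y hynot
    -- the neighbours of `y` on `L'` all lie off `x`
    have hfil : L'.filter (fun u => G.Adj y u) = (L'.erase x).filter (fun u => G.Adj y u) := by
      ext u
      simp only [mem_filter, mem_erase]
      constructor
      · rintro ⟨a1, a2⟩
        refine ⟨⟨?_, a1⟩, a2⟩
        rintro rfl
        exact pxy.2 a2.symm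
      · rintro ⟨⟨_, a1⟩, a2⟩
        exact ⟨a1, a2⟩
    rw [hfil] at hk
    rcases hk with hk | hk
    · intro y' hy' hadj
      rw [card_eq_zero, filter_eq_empty_iff] at hk
      exact hk hy' hadj
    · exfalso
      -- row sum of `y` over `L' \ x`
      have hsum := sum_inter hG h4 hL' hx' pxy
      have hcard := card_erase_line hG h4 hL' hx'
      set A' := L'.erase x with hA'
      set Ad := A'.filter (fun u => G.Adj y u) with hAd
      set Nd := A'.filter (fun u => ¬ G.Adj y u) with hNd
      have hsplit : ∑ u ∈ A', (cn G x u ∩ cn G x y).card =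
          ∑ u ∈ Ad, (cn G x u ∩ cn G x y).card + ∑ u ∈ Nd, (cn G x u ∩ cn G x y).card :=
        (Finset.sum_filter_add_sum_filter_not A' (fun u => G.Adj y u) _).symm
      have hAd0 : ∑ u ∈ Ad, (cn G x u ∩ cn G x y).card = 0 := by
        apply Finset.sum_eq_zero
        intro u hu
        rw [hAd, mem_filter] at hu
        rw [inter_comm]
        exact (hint y hy u hu.1).1 hu.2
      have hNdcard : Nd.card = 2 := by
        have := Finset.card_filter_add_card_filter_not (s := A') (fun u => G.Adj y u)
        rw [← hAd, ← hNd, hk, hcard] at this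
        omega
      have hzNd : z ∈ Nd := by
        rw [hNd, mem_filter]
        exact ⟨hzmem, fun h => hzL y (mem_erase.1 hy).2 h.symm⟩
      have hNdsum : ∑ u ∈ Nd, (cn G x u ∩ cn G x y).card ≤ 3 := by
        rw [← Finset.add_sum_erase Nd _ hzNd]
        have hz1 : (cn G x z ∩ cn G x y).card = 1 := by
          rw [inter_comm]
          exact hone y hy
        have hrest : ∑ u ∈ Nd.erase z, (cn G x u ∩ cn G x y).card ≤ ∑ u ∈ Nd.erase z, 2 := by
          apply Finset.sum_le_sum
          intro u hu
          rw [mem_erase, hNd, mem_filter] at hu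
          rw [inter_comm]
          exact ((hint y hy u hu.2.1).2 hu.2.2).2
        rw [sum_const, card_erase_of_mem hzNd, hNdcard] at hrest
        simp at hrest
        omega
      rw [hsplit, hAd0] at hsum
      omega
  -- conclusion
  intro z' hz' u hu hadj
  by_cases h1' : z' = x
  · subst h1'
    by_cases h2 : u = z'
    · subst h2
      exact G.loopless.irrefl _ hadj
    · have := perp_erase hG h4 hL hx (mem_erase.2 ⟨h2, hu⟩)
      exact this.2 hadj
  · by_cases h2 : u = x
    · subst h2
      have := perp_erase hG h4 hL' hx' (mem_erase.2 ⟨h1', hz'⟩)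
      exact this.2 hadj.symm
    · exact hcol u (mem_erase.2 ⟨h2, hu⟩) z' (mem_erase.2 ⟨h1', hz'⟩) hadj.symm

end Cfsg.Agent.Lib.Helper28.Srg77
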