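import Cfsg.Agent.Lib.Helper28.Srg77.Iso
import Cfsg.Agent.Lib.Helper28.Srg77.PieceC
import Cfsg.Agent.Lib.Helper28.Srg77.PieceH
import Cfsg.Agent.Lib.Helper19.Srg77A
import Cfsg.Agent.Lib.Helper21.Srg77D
import Cfsg.Agent.Lib.Helper12.Srg77E
import Cfsg.Agent.Lib.Helper9.Srg77F
import Cfsg.Agent.Lib.Helper21.Srg77G
import Cfsg.Agent.Lib.Helper21.Srg77I
import Cfsg.Agent.Lib.Helper12.Srg77J
import Cfsg.Agent.Lib.Helper10.Srg77K

set_option autoImplicit false
set_option linter.unusedSectionVars false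
set_option linter.unusedVariables false

/-!
Assembly of the pieces of the uniqueness proof for the strongly regular graph with parameters
`(77,16,0,4)`: every piece except `P2` is chained here, `P2` being taken as a hypothesis.
-/

namespace Cfsg.Agent.Lib.Helper28.Srg77

open Cfsg Finset Classical

variable {V W : Type*} [Fintype V] [Fintype W] {G : SimpleGraph V} {H : SimpleGraph W}

/-- All facts follow from `P2`. -/
theorem facts_of_p2 (hG : M22Like G) (h2 : P2 G) : P10 G ∧ P11 G := by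
  have h1 : P1 G := p1 hG
  have h3 : P3 G := p3 hG h1
  have h4 : P4 G := p4 hG h2 h3
  have h5 : P5 G := p5 hG h4
  have h6 : P6 G := p6 hG h4 h5
  have h7 : P7 G := p7 hG h6
  have h8 : P8 G := p8 hG h1 h4 h5
  have h9 : P9 G := p9 hG h4 h8
  have h10 : P10 G := p10 hG h1 h2
  have h11 : P11 G := p11 hG h4 h5 h6 h7 h9
  exact ⟨h10, h11⟩

/-- Two graphs with the parameters `(77,16,0,4)`, both satisfying `P2`, are isomorphic. -/
theorem iso_of_p2 (hG : M22Like G) (g2 : P2 G) (hH : M22Like H) (k2 : P2 H) :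
    Nonempty (G ≃g H) := by
  obtain ⟨g10, g11⟩ := facts_of_p2 hG g2
  obtain ⟨k10, k11⟩ := facts_of_p2 hH k2
  exact iso_of_facts hG g10 g11 hH k10 k11

end Cfsg.Agent.Lib.Helper28.Srg77
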