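import Cfsg.Agent.Lib.Helper28.Srg77.Classes

set_option autoImplicit false
set_option linter.unusedSectionVars false
set_option linter.unusedVariables false
set_option linter.unusedSimpArgs false

/-!
Six-class certificates for the PSD form, and common-neighbour sets.
-/

namespace Cfsg.Agent.Lib.Helper28.Srg77

open Finset Classical

variable {V : Type*} [Fintype V] {G : SimpleGraph V}

/-- the block value of two classes -/
noncomputable def bv (G : SimpleGraph V) (S S' : Finset V) : ℤ :=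
  22 * ((S ∩ S').card : ℤ) - 11 * ee G S S' + 2 * (S.card : ℤ) * (S'.card : ℤ)

theorem bv_symm (S S' : Finset V) : bv G S S' = bv G S' S := by
  unfold bv
  rw [inter_comm, ee_symm]
  ring

theorem bv_self (S : Finset V) :
    bv G S S = 22 * (S.card : ℤ) - 11 * ee G S S + 2 * (S.card : ℤ) * (S.card : ℤ) := by
  unfold bv
  rw [inter_self]

theorem bv_disj {S S' : Finset V} (h : Disjoint S S') :
    bv G S S' = - 11 * ee G S S' + 2 * (S.card : ℤ) * (S'.card : ℤ) := by
  unfold bv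
  rw [disjoint_iff_inter_eq_empty.1 h, card_empty]
  simp

/-- the PSD inequality for six classes -/
theorem cert6 (hG : M22Like G) (S0 S1 S2 S3 S4 S5 : Finset V) (w0 w1 w2 w3 w4 w5 : ℤ) :
    0 ≤ w0 * w0 * bv G S0 S0 + w1 * w1 * bv G S1 S1 + w2 * w2 * bv G S2 S2 +
      w3 * w3 * bv G S3 S3 + w4 * w4 * bv G S4 S4 + w5 * w5 * bv G S5 S5 +
      2 * (w0 * w1 * bv G S0 S1 + w0 * w2 * bv G S0 S2 + w0 * w3 * bv G S0 S3 +
        w0 * w4 * bv G S0 S4 + w0 * w5 * bv G S0 S5 + w1 * w2 * bv G S1 S2 +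
        w1 * w3 * bv G S1 S3 + w1 * w4 * bv G S1 S4 + w1 * w5 * bv G S1 S5 +
        w2 * w3 * bv G S2 S3 + w2 * w4 * bv G S2 S4 + w2 * w5 * bv G S2 S5 +
        w3 * w4 * bv G S3 S4 + w3 * w5 * bv G S3 S5 + w4 * w5 * bv G S4 S5) := by
  have h := psd_s_classes hG ![S0, S1, S2, S3, S4, S5] ![w0, w1, w2, w3, w4, w5]
  simp only [Fin.sum_univ_succ, Fin.sum_univ_zero, Matrix.cons_val_zero, Matrix.cons_val_succ,
    Matrix.cons_val_one] at h
  have e : ∀ S S' : Finset V, 22 * ((S ∩ S').card : ℤ) - 11 * ee G S S' +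
      2 * (S.card : ℤ) * (S'.card : ℤ) = bv G S S' := fun _ _ => rfl
  simp only [e] at h
  rw [bv_symm S1 S0, bv_symm S2 S0, bv_symm S3 S0, bv_symm S4 S0, bv_symm S5 S0,
    bv_symm S2 S1, bv_symm S3 S1, bv_symm S4 S1, bv_symm S5 S1, bv_symm S3 S2,
    bv_symm S4 S2, bv_symm S5 S2, bv_symm S4 S3, bv_symm S5 S3, bv_symm S5 S4] at h
  convert h using 1
  ring

/-- common neighbours -/
noncomputable def cn (G : SimpleGraph V) (a b : V) : Finset V :=
  univ.filter (fun c => G.Adj a c ∧ G.Adj b c)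

theorem mem_cn {a b c : V} : c ∈ cn G a b ↔ G.Adj a c ∧ G.Adj b c := by
  simp [cn]

theorem card_cn (hG : M22Like G) {a b : V} (h : Perp G a b) : (cn G a b).card = 4 :=
  hG.mu a b h.1 h.2

theorem cn_comm (a b : V) : cn G a b = cn G b a := by
  ext c
  rw [mem_cn, mem_cn, and_comm]

/-- neighbours of a vertex are pairwise non-adjacent -/
theorem nadj_of_nb (hG : M22Like G) {a m m' : V} (h : G.Adj a m) (h' : G.Adj a m') :
    ¬ G.Adj m m' := hG.tri a m m' h h'

end Cfsg.Agent.Lib.Helper28.Srg77
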