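import Cfsg.Agent.Lib.Helper28.Srg77.Psd

set_option autoImplicit false
set_option linter.unusedSectionVars false
set_option linter.unusedVariables false

/-!
Evaluation of the PSD form on a weighting that is constant on finitely many classes
`S 0, ..., S (m-1)` of vertices (the classes need not even be disjoint).
-/

namespace Cfsg.Agent.Lib.Helper28.Srg77

open Finset Classical

variable {V : Type*} [Fintype V] {G : SimpleGraph V}

/-- number of ordered adjacent pairs `(u, v)`, `u ∈ S`, `v ∈ S'` -/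
noncomputable def ee (G : SimpleGraph V) (S S' : Finset V) : ℤ :=
  ∑ u ∈ S, ((S'.filter (fun v => G.Adj u v)).card : ℤ)

theorem ee_eq_sum (S S' : Finset V) :
    ee G S S' = ∑ u ∈ S, ∑ v ∈ S', ad G u v := by
  unfold ee ad
  refine Finset.sum_congr rfl fun u _ => ?_
  rw [Finset.sum_boole]

theorem ee_symm (S S' : Finset V) : ee G S S' = ee G S' S := by
  rw [ee_eq_sum, ee_eq_sum, Finset.sum_comm]
  refine Finset.sum_congr rfl fun u _ => Finset.sum_congr rfl fun v _ => ?_
  exact ad_symm v u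

theorem ee_const {S S' : Finset V} {n : ℕ}
    (h : ∀ u ∈ S, (S'.filter (fun v => G.Adj u v)).card = n) : ee G S S' = S.card * n := by
  unfold ee
  rw [Finset.sum_congr rfl (fun u hu => by rw [h u hu])]
  simp

theorem ee_zero {S S' : Finset V} (h : ∀ u ∈ S, ∀ v ∈ S', ¬ G.Adj u v) : ee G S S' = 0 := by
  have : ∀ u ∈ S, (S'.filter (fun v => G.Adj u v)).card = 0 := by
    intro u hu
    rw [card_eq_zero, filter_eq_empty_iff]
    exact fun v hv => h u hu v hv
  rw [ee_const this]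
  simp

theorem ee_full {S S' : Finset V} (h : ∀ u ∈ S, ∀ v ∈ S', G.Adj u v) :
    ee G S S' = S.card * S'.card := by
  have : ∀ u ∈ S, (S'.filter (fun v => G.Adj u v)).card = S'.card := by
    intro u hu
    rw [filter_true_of_mem (fun v hv => h u hu v hv)]
  rw [ee_const this]

/-- the block sum of the kernel `Ks` -/
theorem sum_Ks (S S' : Finset V) :
    ∑ u ∈ S, ∑ v ∈ S', Ks G u v =
      22 * ((S ∩ S').card : ℤ) - 11 * ee G S S' + 2 * (S.card : ℤ) * (S'.card : ℤ) := by
  rw [ee_eq_sum]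
  have h1 : ∀ u ∈ S, ∑ v ∈ S', Ks G u v =
      22 * (if u ∈ S' then 1 else 0) - 11 * ∑ v ∈ S', ad G u v + 2 * (S'.card : ℤ) := by
    intro u _
    simp_rw [Ks_eq]
    rw [Finset.sum_add_distrib, Finset.sum_add_distrib, ← Finset.mul_sum, ← Finset.mul_sum]
    have : ∑ v ∈ S', dl u v = if u ∈ S' then 1 else 0 := by
      unfold dl
      rw [Finset.sum_ite_eq]
    rw [this]
    simp
    ring
  rw [Finset.sum_congr rfl h1, Finset.sum_add_distrib, Finset.sum_sub_distrib, ← Finset.mul_sum,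
    ← Finset.mul_sum]
  have h2 : ∑ u ∈ S, (if u ∈ S' then (1 : ℤ) else 0) = ((S ∩ S').card : ℤ) := by
    rw [Finset.sum_boole]
    congr 2
  rw [h2]
  simp
  ring

/-- the block sum of the kernel `Kr` -/
theorem sum_Kr (S S' : Finset V) :
    ∑ u ∈ S, ∑ v ∈ S', Kr G u v =
      42 * ((S ∩ S').card : ℤ) + 7 * ee G S S' - 2 * (S.card : ℤ) * (S'.card : ℤ) := by
  rw [ee_eq_sum]
  have h1 : ∀ u ∈ S, ∑ v ∈ S', Kr G u v =
      42 * (if u ∈ S' then 1 else 0) + 7 * ∑ v ∈ S', ad G u v - 2 * (S'.card : ℤ) := by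
    intro u _
    simp_rw [Kr_eq]
    rw [Finset.sum_add_distrib, Finset.sum_add_distrib, ← Finset.mul_sum, ← Finset.mul_sum]
    have : ∑ v ∈ S', dl u v = if u ∈ S' then 1 else 0 := by
      unfold dl
      rw [Finset.sum_ite_eq]
    rw [this]
    simp
    ring
  rw [Finset.sum_congr rfl h1, Finset.sum_sub_distrib, Finset.sum_add_distrib, ← Finset.mul_sum,
    ← Finset.mul_sum]
  have h2 : ∑ u ∈ S, (if u ∈ S' then (1 : ℤ) else 0) = ((S ∩ S').card : ℤ) := by
    rw [Finset.sum_boole]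
    congr 2
  rw [h2]
  simp
  ring

/-- `psd_s` for a weighting constant on classes -/
theorem psd_s_classes (hG : M22Like G) {m : ℕ} (S : Fin m → Finset V) (a : Fin m → ℤ) :
    0 ≤ ∑ k, ∑ l, a k * a l *
      (22 * (((S k) ∩ (S l)).card : ℤ) - 11 * ee G (S k) (S l) +
        2 * ((S k).card : ℤ) * ((S l).card : ℤ)) := by
  have h := psd_s hG (ι := (k : Fin m) × ↥(S k)) (fun i => (i.2 : V)) (fun i => a i.1)
  refine le_trans h (le_of_eq ?_)
  rw [Fintype.sum_sigma]
  refine Finset.sum_congr rfl fun k _ => ?_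
  have : ∀ u : ↥(S k), (∑ j : (l : Fin m) × ↥(S l), a k * a j.1 * Ks G (u : V) (j.2 : V)) =
      ∑ l, a k * a l * ∑ v ∈ S l, Ks G (u : V) v := by
    intro u
    rw [Fintype.sum_sigma]
    refine Finset.sum_congr rfl fun l _ => ?_
    rw [Finset.mul_sum, ← Finset.sum_coe_sort (S l)]
  simp_rw [this]
  rw [Finset.sum_comm]
  refine Finset.sum_congr rfl fun l _ => ?_
  rw [← Finset.mul_sum, Finset.sum_coe_sort (S k) (fun u => ∑ v ∈ S l, Ks G u v), sum_Ks]

end Cfsg.Agent.Lib.Helper28.Srg77
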