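import Mathlib

set_option autoImplicit false
set_option linter.unusedSectionVars false
set_option linter.unusedVariables false

/-!
Uniqueness of the strongly regular graph with parameters `(77, 16, 0, 4)`: definitions and the
statements of the intermediate facts (`P1` ... `P11`).  Everything is stated with classical
decidability (`open Classical`), for a graph `G` on a finite type `V`.

Notation of the paper proof: `x ⊥ y` (`Perp`) = distinct and non-adjacent; three pairwise `⊥`
vertices are *collinear* (`Col`) when they have no common neighbour; the *line* of a `⊥`-pair is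
the pair together with its collinear partners; `Tset L` = vertices off the line `L` with no
neighbour on `L`.
-/

namespace Cfsg.Agent.Lib.Helper28.Srg77

open Finset Classical

variable {V : Type*} [Fintype V]

/-- combinatorial form of the parameters `(77, 16, 0, 4)` -/
structure M22Like (G : SimpleGraph V) : Prop where
  card : Fintype.card V = 77
  deg : ∀ a, (univ.filter (fun c => G.Adj a c)).card = 16
  tri : ∀ a b c, G.Adj a b → G.Adj a c → ¬ G.Adj b c
  mu : ∀ a b, a ≠ b → ¬ G.Adj a b → (univ.filter (fun c => G.Adj a c ∧ G.Adj b c)).card = 4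

theorem m22Like_of_srg {G : SimpleGraph V} [DecidableRel G.Adj] (h : G.IsSRGWith 77 16 0 4) :
    M22Like G where
  card := h.card
  deg := by
    intro a
    have := h.regular.degree_eq a
    rw [← SimpleGraph.card_neighborFinset_eq_degree, SimpleGraph.neighborFinset_eq_filter] at this
    convert this
  tri := by
    intro a b c hab hac hbc
    have := h.of_adj b c hbc
    rw [Fintype.card_eq_zero_iff] at this
    exact this.false ⟨a, (SimpleGraph.mem_commonNeighbors G).mpr ⟨hab.symm, hac.symm⟩⟩
  mu := by
    intro a b hne hnadj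
    have := h.of_not_adj hne hnadj
    rw [← this]
    symm
    apply Fintype.card_of_subtype
    intro x
    simp [SimpleGraph.mem_commonNeighbors]

variable (G : SimpleGraph V)

/-- distinct and non-adjacent -/
def Perp (a b : V) : Prop := a ≠ b ∧ ¬ G.Adj a b

/-- collinear: pairwise `Perp`, no common neighbour -/
def Col (a b c : V) : Prop :=
  Perp G a b ∧ Perp G a c ∧ Perp G b c ∧ ∀ m, G.Adj a m → G.Adj b m → ¬ G.Adj c m

/-- the line through a `Perp`-pair -/
noncomputable def line (a b : V) : Finset V :=
  insert a (insert b (univ.filter (fun c => Col G a b c)))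

/-- `L` is a line -/
def IsLine (L : Finset V) : Prop := ∃ a b, Perp G a b ∧ L = line G a b

/-- vertices off `L` with no neighbour on `L` -/
noncomputable def Tset (L : Finset V) : Finset V :=
  univ.filter (fun v => v ∉ L ∧ ∀ x ∈ L, ¬ G.Adj v x)

/-- coclique -/
def IsCoclique (C : Finset V) : Prop := ∀ x ∈ C, ∀ y ∈ C, ¬ G.Adj x y

/-- kernel of `88 E_s` (`E_s` = projection on the eigenspace of `-6`): `22 I - 11 A + 2 J` -/
noncomputable def Ks (u v : V) : ℤ :=
  (if u = v then 22 else 0) - (if G.Adj u v then 11 else 0) + 2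

/-- kernel of `56 E_r` (`E_r` = projection on the eigenspace of `2`): `42 I + 7 A - 2 J` -/
noncomputable def Kr (u v : V) : ℤ :=
  (if u = v then 42 else 0) + (if G.Adj u v then 7 else 0) - 2

/-! ### the statements of the intermediate facts -/

/-- three pairwise `⊥` vertices have at most two common neighbours -/
def P1 : Prop := ∀ x y z : V, Perp G x y → Perp G x z → Perp G y z →
  (univ.filter (fun m => G.Adj x m ∧ G.Adj y m ∧ G.Adj z m)).card ≤ 2

/-- a `⊥`-pair has exactly three collinear partners -/
def P2 : Prop := ∀ x y : V, Perp G x y → (univ.filter (fun z => Col G x y z)).card = 3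

/-- collinearity with a fixed pair propagates -/
def P3 : Prop := ∀ a x y y' : V, Col G a x y → Col G a x y' → y ≠ y' → Col G a y y'

/-- lines are well defined 5-sets -/
structure P4 : Prop where
  card_line : ∀ x y, Perp G x y → (line G x y).card = 5
  perp_of_mem : ∀ x y, Perp G x y → ∀ a ∈ line G x y, ∀ b ∈ line G x y, a ≠ b → Perp G a b
  col_of_mem : ∀ x y, Perp G x y → ∀ a ∈ line G x y, ∀ b ∈ line G x y, ∀ c ∈ line G x y,
    a ≠ b → a ≠ c → b ≠ c → Col G a b c
  line_eq : ∀ x y, Perp G x y → ∀ a ∈ line G x y, ∀ b ∈ line G x y, a ≠ b →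
    line G a b = line G x y

/-- a vertex off a line has 0 or 2 neighbours on it; 32 vertices have none -/
structure P5 : Prop where
  nb_line : ∀ L, IsLine G L → ∀ v, v ∉ L →
    (L.filter (fun x => G.Adj v x)).card = 0 ∨ (L.filter (fun x => G.Adj v x)).card = 2
  card_T : ∀ L, IsLine G L → (Tset G L).card = 32

/-- the graph induced on `Tset L` is 6-regular -/
def P6 : Prop := ∀ L, IsLine G L → ∀ v ∈ Tset G L,
  ((Tset G L).filter (fun u => G.Adj v u)).card = 6

/-- the graph induced on `Tset L` is connected -/
def P7 : Prop := ∀ L, IsLine G L → ∀ U, U ⊆ Tset G L →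
  (∀ u ∈ U, ∀ v ∈ Tset G L \ U, ¬ G.Adj u v) → U = ∅ ∨ U = Tset G L

/-- two lines through a vertex: no edges between them as soon as one vertex of the second line
(off the common vertex) has no neighbour on the first -/
def P8 : Prop := ∀ L L', IsLine G L → IsLine G L' → L ≠ L' → ∀ x, x ∈ L → x ∈ L' →
  ∀ z ∈ L', z ≠ x → (∀ u ∈ L, ¬ G.Adj z u) → ∀ z' ∈ L', ∀ u ∈ L, ¬ G.Adj z' u

/-- a line and a vertex of its `Tset` lie in a coclique of size 21 -/
def P9 : Prop := ∀ L, IsLine G L → ∀ z ∈ Tset G L,
  ∃ C : Finset V, L ⊆ C ∧ z ∈ C ∧ C.card = 21 ∧ IsCoclique G C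

/-- a coclique of size 21 contains the line of any two of its vertices -/
def P10 : Prop := ∀ D : Finset V, D.card = 21 → IsCoclique G D →
  ∀ v ∈ D, ∀ w ∈ D, v ≠ w → line G v w ⊆ D

/-- exactly two cocliques of size 21 contain a given line -/
def P11 : Prop := ∀ L, IsLine G L →
  (univ.filter (fun D : Finset V => D.card = 21 ∧ IsCoclique G D ∧ L ⊆ D)).card = 2

/-! ### trivial symmetry lemmas -/

variable {G}

theorem Perp.symm {a b : V} (h : Perp G a b) : Perp G b a :=
  ⟨h.1.symm, fun h' => h.2 h'.symm⟩

theorem Col.swap12 {a b c : V} (h : Col G a b c) : Col G b a c :=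
  ⟨h.1.symm, h.2.2.1, h.2.1, fun m hb ha => h.2.2.2 m ha hb⟩

theorem Col.swap23 {a b c : V} (h : Col G a b c) : Col G a c b :=
  ⟨h.2.1, h.1, h.2.2.1.symm, fun m ha hc hb => h.2.2.2 m ha hb hc⟩

theorem Col.rot {a b c : V} (h : Col G a b c) : Col G b c a := h.swap12.swap23

theorem Col.swap13 {a b c : V} (h : Col G a b c) : Col G c b a := h.swap12.swap23.swap12

theorem mem_line {a b c : V} : c ∈ line G a b ↔ c = a ∨ c = b ∨ Col G a b c := by
  simp [line]

theorem left_mem_line (a b : V) : a ∈ line G a b := mem_line.2 (Or.inl rfl)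

theorem right_mem_line (a b : V) : b ∈ line G a b := mem_line.2 (Or.inr (Or.inl rfl))

theorem mem_Tset {L : Finset V} {v : V} : v ∈ Tset G L ↔ v ∉ L ∧ ∀ x ∈ L, ¬ G.Adj v x := by
  simp [Tset]

end Cfsg.Agent.Lib.Helper28.Srg77
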