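import Cfsg.Agent.Lib.Helper28.Srg77.Steiner
import Cfsg.Agent.Lib.Helper28.Witt22

set_option autoImplicit false
set_option linter.unusedSectionVars false
set_option linter.unusedVariables false

/-!
Two graphs with the parameters `(77,16,0,4)` satisfying the facts `P10`, `P11` are isomorphic:
both are the block graphs of Steiner systems `S(3,6,22)`, and these are isomorphic.
-/

namespace Cfsg.Agent.Lib.Helper28.Srg77

open Cfsg Finset Classical

variable {V W : Type*} [Fintype V] [Fintype W] {G : SimpleGraph V} {H : SimpleGraph W}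

theorem iso_of_facts (hG : M22Like G) (g10 : P10 G) (g11 : P11 G)
    (hH : M22Like H) (k10 : P10 H) (k11 : P11 H) : Nonempty (G ≃g H) := by
  have hS := blocks_steiner hG g10 g11
  have hS' := blocks_steiner hH k10 k11
  obtain ⟨e, he⟩ := Witt.steiner_3_6_22_iso (card_Pt hG g10 g11) (card_Pt hH k10 k11) hS hS'
  -- the vertex map
  have hex : ∀ v : V, ∃ w : W, blk H w = (blk G v).image e := by
    intro v
    have : (blk G v).image e ∈ blocks H := by
      rw [← he]
      exact ⟨blk G v, ⟨v, rfl⟩, rfl⟩
    obtain ⟨w, hw⟩ := this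
    exact ⟨w, hw⟩
  choose ψ hψ using hex
  have hinj : Function.Injective ψ := by
    intro v v' hvv'
    have h1 : (blk G v).image e = (blk G v').image e := by
      rw [← hψ v, ← hψ v', hvv']
    have h2 : blk G v = blk G v' := Finset.image_injective e.injective h1
    exact blk_injective hG g10 g11 h2
  have hsurj : Function.Surjective ψ := by
    intro w
    have : blk H w ∈ blocks H := ⟨w, rfl⟩
    rw [← he] at this
    obtain ⟨b, ⟨v, rfl⟩, hb⟩ := this
    refine ⟨v, ?_⟩
    apply blk_injective hH k10 k11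
    rw [hψ v]
    exact hb
  refine ⟨⟨Equiv.ofBijective ψ ⟨hinj, hsurj⟩, ?_⟩⟩
  intro v v'
  show H.Adj (ψ v) (ψ v') ↔ G.Adj v v'
  rw [adj_iff hG g10 g11, adj_iff hH k10 k11, hψ v, hψ v']
  constructor
  · rintro ⟨h1, h2⟩
    refine ⟨fun h => h1 (h ▸ rfl), ?_⟩
    exact (Finset.disjoint_image e.injective).1 h2
  · rintro ⟨h1, h2⟩
    exact ⟨fun h => h1 (hinj h), (Finset.disjoint_image e.injective).2 h2⟩

end Cfsg.Agent.Lib.Helper28.Srg77
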