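import Cfsg.Agent.Lib.Helper28.Srg77.Defs

set_option autoImplicit false
set_option linter.unusedSectionVars false
set_option linter.unusedVariables false

/-!
The two positive semidefinite kernels of a strongly regular graph with parameters `(77,16,0,4)`
(`88 E_s = 22 I - 11 A + 2 J` and `56 E_r = 42 I + 7 A - 2 J`), in elementary form: for any finite
family of vertices `f : ι → V` with integer weights `w`, `0 ≤ ∑ i j, w i * w j * K (f i) (f j)`,
and in case of equality `∑ i, w i * K v (f i) = 0` for every vertex `v`.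
-/

namespace Cfsg.Agent.Lib.Helper28.Srg77

open Finset Classical

variable {V : Type*} [Fintype V] {G : SimpleGraph V}

/-- indicator of equality -/
noncomputable def dl (u v : V) : ℤ := if u = v then 1 else 0

/-- indicator of adjacency -/
noncomputable def ad (G : SimpleGraph V) (u v : V) : ℤ := if G.Adj u v then 1 else 0

/-- number of common neighbours -/
noncomputable def cnn (G : SimpleGraph V) (u v : V) : ℤ :=
  ((univ.filter (fun c => G.Adj u c ∧ G.Adj v c)).card : ℤ)

theorem Ks_eq (u v : V) : Ks G u v = 22 * dl u v + (-11) * ad G u v + 2 := by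
  unfold Ks dl ad
  split_ifs <;> ring

theorem Kr_eq (u v : V) : Kr G u v = 42 * dl u v + 7 * ad G u v + (-2) := by
  unfold Kr dl ad
  split_ifs <;> ring

theorem ad_symm (u v : V) : ad G u v = ad G v u := by
  unfold ad
  by_cases h : G.Adj u v
  · rw [if_pos h, if_pos h.symm]
  · rw [if_neg h, if_neg (fun h' => h h'.symm)]

theorem dl_symm (u v : V) : dl u v = dl v u := by
  unfold dl
  by_cases h : u = v
  · rw [if_pos h, if_pos h.symm]
  · rw [if_neg h, if_neg (fun h' => h h'.symm)]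

theorem Ks_symm (u v : V) : Ks G u v = Ks G v u := by
  rw [Ks_eq, Ks_eq, ad_symm, dl_symm]

theorem Kr_symm (u v : V) : Kr G u v = Kr G v u := by
  rw [Kr_eq, Kr_eq, ad_symm, dl_symm]

theorem sum_dl_mul (u : V) (g : V → ℤ) : ∑ v, dl u v * g v = g u := by
  unfold dl
  simp [ite_mul]

theorem sum_mul_dl (u : V) (g : V → ℤ) : ∑ v, g v * dl v u = g u := by
  unfold dl
  simp [mul_ite]

theorem sum_dl (u : V) : ∑ v, dl u v = 1 := by
  unfold dl
  simp

theorem sum_dl' (u : V) : ∑ v, dl v u = 1 := by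
  unfold dl
  simp

section

variable (hG : M22Like G)
include hG

theorem sum_ad (u : V) : ∑ v, ad G u v = 16 := by
  unfold ad
  rw [Finset.sum_boole]
  exact_mod_cast hG.deg u

theorem sum_ad' (u : V) : ∑ v, ad G v u = 16 := by
  have : ∀ v, ad G v u = ad G u v := fun v => ad_symm v u
  simp_rw [this]
  exact sum_ad hG u

omit hG in
theorem sum_ad_mul_ad (u u' : V) : ∑ v, ad G u v * ad G v u' = cnn G u u' := by
  unfold ad cnn
  have : ∀ v, ((if G.Adj u v then (1:ℤ) else 0) * (if G.Adj v u' then (1:ℤ) else 0)) =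
      if (G.Adj u v ∧ G.Adj u' v) then 1 else 0 := by
    intro v
    by_cases h1 : G.Adj u v <;> by_cases h2 : G.Adj v u'
    · simp [h1, h2, h2.symm]
    · have : ¬ G.Adj u' v := fun h => h2 h.symm
      simp [h1, h2, this]
    · simp [h1, h2]
    · simp [h1, h2]
  simp_rw [this]
  rw [Finset.sum_boole]

theorem cnn_eq (u u' : V) : cnn G u u' = 12 * dl u u' + (-4) * ad G u u' + 4 := by
  unfold cnn dl ad
  by_cases h1 : u = u'
  · subst h1
    have : (univ.filter (fun c => G.Adj u c ∧ G.Adj u c)) = univ.filter (fun c => G.Adj u c) := by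
      ext c; simp
    rw [this, hG.deg u]
    simp
  · by_cases h2 : G.Adj u u'
    · have : (univ.filter (fun c => G.Adj u c ∧ G.Adj u' c)) = ∅ := by
        ext c
        simp only [mem_filter, mem_univ, true_and, notMem_empty, iff_false, not_and]
        intro h3 h4
        exact hG.tri u u' c h2 h3 h4
      rw [this]
      simp [h1, h2]
    · rw [hG.mu u u' h1 h2]
      simp [h1, h2]

omit hG in
theorem card_univ_int (h : Fintype.card V = 77) : ∑ _v : V, (1 : ℤ) = 77 := by
  simp [h]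

/-- the square of a kernel `α I + β A + γ J` -/
theorem kernel_sq (α β γ : ℤ) (u u' : V) :
    ∑ v, (α * dl u v + β * ad G u v + γ) * (α * dl v u' + β * ad G v u' + γ) =
      (α ^ 2 + 12 * β ^ 2) * dl u u' + (2 * α * β - 4 * β ^ 2) * ad G u u' +
        (2 * α * γ + 4 * β ^ 2 + 32 * β * γ + 77 * γ ^ 2) := by
  have h1 : ∀ v, (α * dl u v + β * ad G u v + γ) * (α * dl v u' + β * ad G v u' + γ) =
      α ^ 2 * (dl u v * dl v u') + α * β * (dl u v * ad G v u') + α * γ * dl u v +
      α * β * (ad G u v * dl v u') + β ^ 2 * (ad G u v * ad G v u') + β * γ * ad G u v +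
      α * γ * dl v u' + β * γ * ad G v u' + γ ^ 2 * 1 := by
    intro v; ring
  simp_rw [h1, Finset.sum_add_distrib, ← Finset.mul_sum]
  rw [sum_dl_mul u (fun v => dl v u'), sum_dl_mul u (fun v => ad G v u'), sum_dl,
    sum_mul_dl u' (fun v => ad G u v), sum_ad_mul_ad, sum_ad hG, sum_dl', sum_ad' hG,
    card_univ_int hG.card, cnn_eq hG]
  ring

theorem Ks_sq (u u' : V) : ∑ v, Ks G u v * Ks G v u' = 88 * Ks G u u' := by
  simp_rw [Ks_eq]
  rw [kernel_sq hG]
  ring

theorem Kr_sq (u u' : V) : ∑ v, Kr G u v * Kr G v u' = 56 * Kr G u u' := by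
  simp_rw [Kr_eq]
  rw [kernel_sq hG]
  ring

end

/-- abstract positivity from an idempotent-like symmetric kernel -/
theorem psd_aux (K : V → V → ℤ) (c : ℤ) (hc : 0 < c) (hsymm : ∀ u v, K u v = K v u)
    (hsq : ∀ u u', ∑ v, K u v * K v u' = c * K u u')
    {ι : Type*} [Fintype ι] (f : ι → V) (w : ι → ℤ) :
    c * (∑ i, ∑ j, w i * w j * K (f i) (f j)) = ∑ v, (∑ i, w i * K v (f i)) ^ 2 := by
  have h1 : ∀ v, (∑ i, w i * K v (f i)) ^ 2 =
      ∑ i, ∑ j, w i * w j * (K (f i) v * K v (f j)) := by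
    intro v
    rw [pow_two, Finset.sum_mul_sum]
    refine Finset.sum_congr rfl fun i _ => Finset.sum_congr rfl fun j _ => ?_
    rw [hsymm (f i) v]
    ring
  simp_rw [h1]
  have h2 : ∑ v, ∑ i, ∑ j, w i * w j * (K (f i) v * K v (f j)) =
      ∑ i, ∑ j, ∑ v, w i * w j * (K (f i) v * K v (f j)) := by
    rw [Finset.sum_comm]
    exact Finset.sum_congr rfl fun i _ => Finset.sum_comm
  rw [h2, Finset.mul_sum]
  refine Finset.sum_congr rfl fun i _ => ?_
  rw [Finset.mul_sum]
  refine Finset.sum_congr rfl fun j _ => ?_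
  rw [← Finset.mul_sum, hsq]
  ring

section

variable (hG : M22Like G)
include hG

/-- positivity of `22 I - 11 A + 2 J` -/
theorem psd_s {ι : Type*} [Fintype ι] (f : ι → V) (w : ι → ℤ) :
    0 ≤ ∑ i, ∑ j, w i * w j * Ks G (f i) (f j) := by
  have h := psd_aux (Ks G) 88 (by norm_num) Ks_symm (Ks_sq hG) f w
  have h2 : 0 ≤ ∑ v, (∑ i, w i * Ks G v (f i)) ^ 2 := Finset.sum_nonneg fun v _ => sq_nonneg _
  rw [← h] at h2
  linarith [h2]

/-- the equality case of `psd_s` -/
theorem psd_s_eq {ι : Type*} [Fintype ι] (f : ι → V) (w : ι → ℤ)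
    (h0 : ∑ i, ∑ j, w i * w j * Ks G (f i) (f j) = 0) (v : V) :
    ∑ i, w i * Ks G v (f i) = 0 := by
  have h := psd_aux (Ks G) 88 (by norm_num) Ks_symm (Ks_sq hG) f w
  rw [h0, mul_zero] at h
  have h3 := (Finset.sum_eq_zero_iff_of_nonneg (fun v _ => sq_nonneg _)).1 h.symm v (mem_univ v)
  exact pow_eq_zero_iff (by norm_num) |>.1 h3

/-- positivity of `42 I + 7 A - 2 J` -/
theorem psd_r {ι : Type*} [Fintype ι] (f : ι → V) (w : ι → ℤ) :
    0 ≤ ∑ i, ∑ j, w i * w j * Kr G (f i) (f j) := by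
  have h := psd_aux (Kr G) 56 (by norm_num) Kr_symm (Kr_sq hG) f w
  have h2 : 0 ≤ ∑ v, (∑ i, w i * Kr G v (f i)) ^ 2 := Finset.sum_nonneg fun v _ => sq_nonneg _
  rw [← h] at h2
  linarith [h2]

/-- the equality case of `psd_r` -/
theorem psd_r_eq {ι : Type*} [Fintype ι] (f : ι → V) (w : ι → ℤ)
    (h0 : ∑ i, ∑ j, w i * w j * Kr G (f i) (f j) = 0) (v : V) :
    ∑ i, w i * Kr G v (f i) = 0 := by
  have h := psd_aux (Kr G) 56 (by norm_num) Kr_symm (Kr_sq hG) f w
  rw [h0, mul_zero] at h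
  have h3 := (Finset.sum_eq_zero_iff_of_nonneg (fun v _ => sq_nonneg _)).1 h.symm v (mem_univ v)
  exact pow_eq_zero_iff (by norm_num) |>.1 h3

/-! ### the same for a weight function supported on a finset of vertices -/

/-- `psd_s` for `c : V → ℤ` restricted to a finset `S` -/
theorem psd_s_finset (S : Finset V) (c : V → ℤ) :
    0 ≤ ∑ u ∈ S, ∑ v ∈ S, c u * c v * Ks G u v := by
  have h := psd_s hG (fun i : S => (i : V)) (fun i => c i)
  rw [← Finset.sum_coe_sort S]
  refine le_trans h (le_of_eq ?_)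
  refine Finset.sum_congr rfl fun i _ => ?_
  rw [← Finset.sum_coe_sort S]

theorem psd_s_finset_eq (S : Finset V) (c : V → ℤ)
    (h0 : ∑ u ∈ S, ∑ v ∈ S, c u * c v * Ks G u v = 0) (x : V) :
    ∑ u ∈ S, c u * Ks G x u = 0 := by
  have h := psd_s_eq hG (fun i : S => (i : V)) (fun i => c i) ?_ x
  · rw [← Finset.sum_coe_sort S]
    exact h
  · rw [← h0, ← Finset.sum_coe_sort S]
    refine Finset.sum_congr rfl fun i _ => ?_
    rw [← Finset.sum_coe_sort S]

theorem psd_r_finset (S : Finset V) (c : V → ℤ) :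
    0 ≤ ∑ u ∈ S, ∑ v ∈ S, c u * c v * Kr G u v := by
  have h := psd_r hG (fun i : S => (i : V)) (fun i => c i)
  rw [← Finset.sum_coe_sort S]
  refine le_trans h (le_of_eq ?_)
  refine Finset.sum_congr rfl fun i _ => ?_
  rw [← Finset.sum_coe_sort S]

theorem psd_r_finset_eq (S : Finset V) (c : V → ℤ)
    (h0 : ∑ u ∈ S, ∑ v ∈ S, c u * c v * Kr G u v = 0) (x : V) :
    ∑ u ∈ S, c u * Kr G x u = 0 := by
  have h := psd_r_eq hG (fun i : S => (i : V)) (fun i => c i) ?_ x
  · rw [← Finset.sum_coe_sort S]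
    exact h
  · rw [← h0, ← Finset.sum_coe_sort S]
    refine Finset.sum_congr rfl fun i _ => ?_
    rw [← Finset.sum_coe_sort S]

end

end Cfsg.Agent.Lib.Helper28.Srg77
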