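import Cfsg.Agent.Lib.Helper28.Srg77.Defs
import Cfsg.Prelude.Def_Sporadic_a

set_option autoImplicit false
set_option linter.unusedSectionVars false
set_option linter.unusedVariables false

/-!
From the facts `P10`, `P11` (every `⊥`-pair of vertices of a graph with the parameters
`(77,16,0,4)` lies in exactly two cocliques of size 21) to the Steiner system `S(3,6,22)`:
points = cocliques of size 21, blocks = vertices.
-/

namespace Cfsg.Agent.Lib.Helper28.Srg77

open Cfsg Finset Classical

variable {V : Type*} [Fintype V] (G : SimpleGraph V)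

/-- the points: cocliques of size 21 -/
abbrev Pt := {D : Finset V // D.card = 21 ∧ IsCoclique G D}

/-- the block of a vertex: the cocliques of size 21 through it -/
noncomputable def blk (v : V) : Finset (Pt G) := univ.filter (fun D => v ∈ D.1)

/-- the block system -/
def blocks : Set (Finset (Pt G)) := Set.range (blk G)

variable {G}

theorem mem_blk {v : V} {D : Pt G} : D ∈ blk G v ↔ v ∈ D.1 := by
  simp [blk]

section

variable (hG : M22Like G) (h10 : P10 G) (h11 : P11 G)
include hG h10 h11

/-- number of big cocliques through two vertices -/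
theorem card_through_perp {v w : V} (h : Perp G v w) :
    (blk G v ∩ blk G w).card = 2 := by
  have hL : IsLine G (line G v w) := ⟨v, w, h, rfl⟩
  rw [← h11 _ hL]
  refine Finset.card_bij (fun D _ => D.1) ?_ ?_ ?_
  · intro D hD
    rw [mem_inter, mem_blk, mem_blk] at hD
    rw [mem_filter]
    exact ⟨mem_univ _, D.2.1, D.2.2, h10 D.1 D.2.1 D.2.2 v hD.1 w hD.2 h.1⟩
  · intro D _ D' _ hDD'
    exact Subtype.ext hDD'
  · intro D hD
    rw [mem_filter] at hD
    refine ⟨⟨D, hD.2.1, hD.2.2.1⟩, ?_, rfl⟩
    rw [mem_inter, mem_blk, mem_blk]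
    exact ⟨hD.2.2.2 (left_mem_line v w), hD.2.2.2 (right_mem_line v w)⟩

omit hG h10 h11 in
theorem through_adj {v w : V} (h : G.Adj v w) : blk G v ∩ blk G w = ∅ := by
  ext D
  simp only [mem_inter, mem_blk, notMem_empty, iff_false, not_and]
  intro h1 h2
  exact D.2.2 v h1 w h2 h

omit h10 h11 in
/-- the number of vertices `⊥` to a given one -/
theorem card_perp (v : V) : (univ.filter (fun w => Perp G v w)).card = 60 := by
  have h1 : (univ.filter (fun w => Perp G v w)) =
      (univ \ {v}) \ (univ.filter (fun w => G.Adj v w)) := by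
    ext w
    constructor
    · intro hw
      rw [mem_filter] at hw
      obtain ⟨_, h1, h2⟩ := hw
      rw [mem_sdiff, mem_sdiff, mem_singleton, mem_filter]
      exact ⟨⟨mem_univ _, fun h => h1 h.symm⟩, fun h => h2 h.2⟩
    · intro hw
      rw [mem_sdiff, mem_sdiff, mem_singleton, mem_filter] at hw
      rw [mem_filter]
      exact ⟨mem_univ _, fun h => hw.1.2 h.symm, fun h => hw.2 ⟨mem_univ _, h⟩⟩
  rw [h1, card_sdiff_of_subset, card_sdiff_of_subset (subset_univ _), card_univ, hG.card, hG.deg v,
    card_singleton]
  intro w hw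
  rw [mem_filter] at hw
  rw [mem_sdiff, mem_singleton]
  exact ⟨mem_univ _, fun h => G.loopless.irrefl w (h ▸ hw.2)⟩

/-- each vertex lies in exactly 6 big cocliques -/
theorem card_blk (v : V) : (blk G v).card = 6 := by
  -- count pairs (D, w), D ∋ v, w ∈ D, w ≠ v
  have h1 : ∑ D ∈ blk G v, ((D.1.erase v).card) = ∑ w ∈ univ.erase v, (blk G v ∩ blk G w).card := by
    have e1 : ∀ D ∈ blk G v, (D.1.erase v).card = ∑ w ∈ univ.erase v, if w ∈ D.1 then 1 else 0 := by
      intro D _
      rw [← card_filter]
      congr 1
      ext w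
      simp only [mem_erase, mem_filter, mem_univ, and_true]
    rw [Finset.sum_congr rfl e1, Finset.sum_comm]
    refine Finset.sum_congr rfl fun w _ => ?_
    rw [← card_filter]
    congr 1
    ext D
    simp only [mem_filter, mem_inter, mem_blk]
  have h2 : ∀ D ∈ blk G v, (D.1.erase v).card = 20 := by
    intro D hD
    rw [card_erase_of_mem (mem_blk.1 hD), D.2.1]
  have h3 : ∀ w ∈ univ.erase v, (blk G v ∩ blk G w).card = if Perp G v w then 2 else 0 := by
    intro w hw
    rw [mem_erase] at hw
    by_cases hp : Perp G v w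
    · rw [if_pos hp, card_through_perp hG h10 h11 hp]
    · rw [if_neg hp]
      have : G.Adj v w := by
        by_contra hc
        exact hp ⟨hw.1.symm, hc⟩
      rw [through_adj this, card_empty]
  rw [Finset.sum_congr rfl h2, Finset.sum_congr rfl h3, sum_const, ← Finset.sum_filter,
    sum_const] at h1
  have h4 : (univ.erase v).filter (fun w => Perp G v w) = univ.filter (fun w => Perp G v w) := by
    ext w
    simp only [mem_filter, mem_erase, mem_univ, and_true, true_and]
    constructor
    · exact fun h => h.2
    · exact fun h => ⟨h.1.symm, h⟩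
  rw [h4, card_perp hG] at h1
  simp only [smul_eq_mul] at h1
  omega

/-- there are 22 big cocliques -/
theorem card_Pt : Fintype.card (Pt G) = 22 := by
  -- count pairs (D, v), v ∈ D
  have h1 : ∑ D : Pt G, D.1.card = ∑ v : V, (blk G v).card := by
    have e1 : ∀ D : Pt G, D.1.card = ∑ v : V, if v ∈ D.1 then 1 else 0 := by
      intro D
      rw [← card_filter]
      congr 1
      ext v
      simp
    simp_rw [e1]
    rw [Finset.sum_comm]
    refine Finset.sum_congr rfl fun v _ => ?_
    rw [← card_filter]
    rfl
  have h2 : ∀ D : Pt G, D.1.card = 21 := fun D => D.2.1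
  simp_rw [h2, card_blk hG h10 h11] at h1
  rw [sum_const, sum_const, card_univ, card_univ, hG.card] at h1
  simp only [smul_eq_mul] at h1
  omega

/-- distinct vertices have distinct blocks, meeting in at most two points -/
theorem inter_le_two {v w : V} (h : v ≠ w) : (blk G v ∩ blk G w).card ≤ 2 := by
  by_cases hp : G.Adj v w
  · rw [through_adj hp, card_empty]
    omega
  · rw [card_through_perp hG h10 h11 ⟨h, hp⟩]

theorem blk_injective : Function.Injective (blk G) := by
  intro v w hvw
  by_contra hne
  have := inter_le_two hG h10 h11 hne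
  rw [hvw, inter_self, card_blk hG h10 h11] at this
  omega

/-- adjacency is disjointness of blocks -/
theorem adj_iff (v w : V) : G.Adj v w ↔ v ≠ w ∧ Disjoint (blk G v) (blk G w) := by
  constructor
  · intro h
    exact ⟨G.ne_of_adj h, disjoint_iff_inter_eq_empty.2 (through_adj h)⟩
  · rintro ⟨hne, hd⟩
    by_contra hc
    have := card_through_perp hG h10 h11 ⟨hne, hc⟩
    rw [disjoint_iff_inter_eq_empty.1 hd, card_empty] at this
    omega

/-- the Steiner system `S(3,6,22)` -/
theorem blocks_steiner : IsSteinerSystem 3 6 (blocks G) := by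
  refine ⟨?_, ?_⟩
  · rintro b ⟨v, rfl⟩
    exact card_blk hG h10 h11 v
  · set 𝒯 := (univ : Finset (Pt G)).powersetCard 3 with h𝒯
    have hcnt : ∀ T ∈ 𝒯, ((univ : Finset V).filter (fun v => T ⊆ blk G v)).card = 1 := by
      rw [← Finset.sum_eq_sum_iff_of_le]
      · rw [sum_const, h𝒯, card_powersetCard, card_univ, card_Pt hG h10 h11]
        have h1 : ∀ T ∈ 𝒯, ((univ : Finset V).filter (fun v => T ⊆ blk G v)).card =
            ∑ v : V, if T ⊆ blk G v then 1 else 0 := fun T _ => card_filter _ _
        rw [Finset.sum_congr rfl h1, Finset.sum_comm]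
        have h2 : ∀ v ∈ (univ : Finset V), (∑ T ∈ 𝒯, if T ⊆ blk G v then 1 else 0) = 20 := by
          intro v _
          rw [← card_filter]
          have : 𝒯.filter (fun T => T ⊆ blk G v) = (blk G v).powersetCard 3 := by
            ext T
            simp only [h𝒯, mem_filter, mem_powersetCard, subset_univ, true_and]
            tauto
          rw [this, card_powersetCard, card_blk hG h10 h11 v]
          rfl
        rw [Finset.sum_congr rfl h2, sum_const, card_univ, hG.card]
        rfl
      · intro T hT
        rw [h𝒯, mem_powersetCard] at hT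
        rw [card_le_one]
        intro a ha b hb
        rw [mem_filter] at ha hb
        by_contra hne
        have h1 := inter_le_two hG h10 h11 hne
        have h2 : T ⊆ blk G a ∩ blk G b := subset_inter ha.2 hb.2
        have h3 := card_le_card h2
        omega
    intro T hT
    have hT𝒯 : T ∈ 𝒯 := by
      rw [h𝒯, mem_powersetCard]
      exact ⟨subset_univ _, hT⟩
    obtain ⟨v, hv⟩ := card_eq_one.mp (hcnt T hT𝒯)
    have hvm : v ∈ (univ : Finset V).filter (fun v => T ⊆ blk G v) := by
      rw [hv]
      exact mem_singleton_self v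
    rw [mem_filter] at hvm
    refine ⟨blk G v, ⟨⟨v, rfl⟩, hvm.2⟩, ?_⟩
    rintro b ⟨⟨w, rfl⟩, hTb⟩
    have hwm : w ∈ (univ : Finset V).filter (fun v => T ⊆ blk G v) := by
      rw [mem_filter]
      exact ⟨mem_univ _, hTb⟩
    rw [hv, mem_singleton] at hwm
    rw [hwm]

end

end Cfsg.Agent.Lib.Helper28.Srg77
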